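import Groth.Agent.Lib.LangMap13.Algebra
import Groth.Agent.Lib.Rigidity.SmoothGroup
import Groth.Agent.Lib.Neutral.Connected
import Mathlib.FieldTheory.Finite.Basic
import Mathlib.AlgebraicGeometry.Morphisms.QuasiFinite
import Mathlib.AlgebraicGeometry.Morphisms.Finite

/-!
# The Lang map of an affine group over a finite field is surjective

For an affine smooth connected group `G` over a finite field with Frobenius `F`, and any point `a`
with values in a field, `u ↦ u a F(u)⁻¹` has finite fibres: the scheme of solutions of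
`u a F(u)⁻¹ = a` is unramified because `d(s^q) = 0`.  Hence these maps are dominant, any two of their
images meet, and `g ↦ g F(g)⁻¹` is surjective.
-/

universe u

open CategoryTheory CategoryTheory.Limits Opposite AlgebraicGeometry
open MonoidalCategory CartesianMonoidalCategory
open MonObj GrpObj

set_option backward.isDefEq.respectTransparency false

noncomputable section

namespace GrothLib.LangMap13

variable {k : Type u} [Field k]

/-- The map from `k` to the global functions. -/
def constMap (T : Over (Spec (CommRingCat.of k))) : CommRingCat.of k ⟶ Γ(T.left, ⊤) :=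
  (Scheme.ΓSpecIso (CommRingCat.of k)).inv ≫ T.hom.appTop

theorem constMap_comp {T U : Over (Spec (CommRingCat.of k))} (g : T ⟶ U) :
    constMap U ≫ g.left.appTop = constMap T := by
  rw [constMap, constMap, Category.assoc, ← Scheme.Hom.comp_appTop, Over.w]

/-- The ring of global functions of a product is generated by those of the factors. -/
theorem eq_top_of_range (X Y : Over (Spec (CommRingCat.of k))) [IsAffine X.left] [IsAffine Y.left]
    (S : Subring Γ((X ⊗ Y).left, ⊤)) (hX : ∀ x, (fst X Y).left.appTop.hom x ∈ S)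
    (hY : ∀ y, (snd X Y).left.appTop.hom y ∈ S) : S = ⊤ := by
  have h := isPushout_appTop_of_isPullback (P := (X ⊗ Y).left) (fst := (fst X Y).left) (snd := (snd X Y).left)
    (IsPullback.of_hasPullback X.hom Y.hom)
  let a : Γ(X.left, ⊤) ⟶ CommRingCat.of S := CommRingCat.ofHom ((fst X Y).left.appTop.hom.codRestrict S hX)
  let b : Γ(Y.left, ⊤) ⟶ CommRingCat.of S := CommRingCat.ofHom ((snd X Y).left.appTop.hom.codRestrict S hY)
  have hab : X.hom.appTop ≫ a = Y.hom.appTop ≫ b := by
    ext z
    exact congr($(h.w) z)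
  have hid : h.desc a b hab ≫ CommRingCat.ofHom S.subtype = 𝟙 _ := by
    apply h.hom_ext
    · rw [h.inl_desc_assoc, Category.comp_id]
      ext z
      rfl
    · rw [h.inr_desc_assoc, Category.comp_id]
      ext z
      rfl
  refine eq_top_iff.2 fun z _ => ?_
  rw [show z = (CommRingCat.ofHom S.subtype).hom ((h.desc a b hab).hom z) from (congr($hid z)).symm]
  exact ((h.desc a b hab).hom z).2

section Frob

variable [Finite k]

/-- The `q`-th power map, linear over the field with `q` elements. -/
def powHom (T : Over (Spec (CommRingCat.of k))) : Γ(T.left, ⊤) ⟶ Γ(T.left, ⊤) :=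
  letI := Fintype.ofFinite k
  letI : Algebra k Γ(T.left, ⊤) := (constMap T).hom.toAlgebra
  CommRingCat.ofHom (FiniteField.frobeniusAlgHom k Γ(T.left, ⊤)).toRingHom

theorem powHom_apply (T : Over (Spec (CommRingCat.of k))) (x : Γ(T.left, ⊤)) :
    (powHom T).hom x = x ^ Nat.card k := by
  letI := Fintype.ofFinite k
  rw [Nat.card_eq_fintype_card]
  rfl

theorem constMap_powHom (T : Over (Spec (CommRingCat.of k))) : constMap T ≫ powHom T = constMap T := by
  letI := Fintype.ofFinite k
  ext c
  show (powHom T).hom ((constMap T).hom c) = _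
  rw [powHom_apply, ← map_pow, Nat.card_eq_fintype_card, FiniteField.pow_card]

theorem isoSpec_inv_appTop' (X : Scheme.{u}) [IsAffine X] :
    X.isoSpec.inv.appTop = (Scheme.ΓSpecIso Γ(X, ⊤)).inv := by
  have h : X.isoSpec.inv.appTop ≫ X.isoSpec.hom.appTop = 𝟙 _ := by
    rw [← Scheme.Hom.comp_appTop, Iso.hom_inv_id]; rfl
  rw [Scheme.isoSpec_hom, Scheme.toSpecΓ_appTop] at h
  exact (Iso.comp_hom_eq_id _).1 h

/-- The absolute Frobenius of an affine scheme over a finite field. -/
def frob (T : Over (Spec (CommRingCat.of k))) [IsAffine T.left] : T ⟶ T :=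
  Over.homMk (T.left.isoSpec.hom ≫ Spec.map (powHom T) ≫ T.left.isoSpec.inv) (by
    apply ext_of_isAffine
    have h := constMap_powHom T
    rw [constMap, Category.assoc, cancel_epi] at h
    simp only [Scheme.Hom.comp_appTop, isoSpec_inv_appTop', Scheme.isoSpec_hom, Scheme.toSpecΓ_appTop,
      Category.assoc, Scheme.ΓSpecIso_naturality, Iso.inv_hom_id_assoc]
    exact h)

theorem frob_appTop (T : Over (Spec (CommRingCat.of k))) [IsAffine T.left] :
    (frob T).left.appTop = powHom T := by
  show (T.left.isoSpec.hom ≫ Spec.map (powHom T) ≫ T.left.isoSpec.inv).appTop = _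
  simp only [Scheme.Hom.comp_appTop, isoSpec_inv_appTop', Scheme.isoSpec_hom, Scheme.toSpecΓ_appTop,
    Category.assoc, Scheme.ΓSpecIso_naturality, Iso.inv_hom_id_assoc]

variable {G : Over (Spec (CommRingCat.of k))} [GrpObj G] [IsAffine G.left]
  {F : G ⟶ G} (hF : ∀ s : Γ(G.left, ⊤), F.left.appTop s = s ^ Nat.card k)

include hF

theorem comp_frobenius (T : Over (Spec (CommRingCat.of k))) [IsAffine T.left] (g : T ⟶ G) :
    g ≫ F = frob T ≫ g := by
  ext1
  rw [Over.comp_left, Over.comp_left]
  apply ext_of_isAffine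
  rw [Scheme.Hom.comp_appTop, Scheme.Hom.comp_appTop, frob_appTop]
  ext s
  show g.left.appTop.hom (F.left.appTop.hom s) = (powHom T).hom (g.left.appTop.hom s)
  rw [powHom_apply, ← map_pow]
  exact congrArg _ (hF s)

theorem isMonHom_frobenius : IsMonHom F := by
  haveI : IsAffine (𝟙_ (Over (Spec (CommRingCat.of k)))).left :=
    inferInstanceAs (IsAffine (Spec (CommRingCat.of k)))
  haveI : IsAffine (G ⊗ G).left := inferInstanceAs (IsAffine (pullback G.hom G.hom))
  refine ⟨?_, ?_⟩
  · rw [comp_frobenius hF, toUnit_unique (frob _) (𝟙 _), Category.id_comp]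
  · have e : ∀ f g : G ⊗ G ⟶ G, (f * g) ≫ F = (f ≫ F) * (g ≫ F) := fun f g => by
      rw [comp_frobenius hF, comp_frobenius hF, comp_frobenius hF, MonObj.comp_mul]
    have h := e (fst G G) (snd G G)
    rw [MonObj.mul_eq_mul] at *
    rw [h, MonObj.comp_mul]
    simp

end Frob

variable [Finite k] {G : Over (Spec (CommRingCat.of k))} [GrpObj G]

/-- `(g, t) ↦ g a(t) F(g)⁻¹`. -/
def N (F : G ⟶ G) {P : Over (Spec (CommRingCat.of k))} (a : P ⟶ G) : G ⊗ P ⟶ G :=
  fst G P * (snd G P ≫ a) * (fst G P ≫ F)⁻¹

/-- The twisted Lang map over the parameter scheme. -/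
def M (F : G ⟶ G) {P : Over (Spec (CommRingCat.of k))} (a : P ⟶ G) : G ⊗ P ⟶ G ⊗ P :=
  lift (N F a) (snd G P)

theorem comp_N (F : G ⟶ G) {P T : Over (Spec (CommRingCat.of k))} (a : P ⟶ G) (g : T ⟶ G) (t : T ⟶ P) :
    lift g t ≫ N F a = g * (t ≫ a) * (g ≫ F)⁻¹ := by
  simp [N, MonObj.comp_mul, GrpObj.comp_inv]

theorem comp_M (F : G ⟶ G) {P T : Over (Spec (CommRingCat.of k))} (a : P ⟶ G) (f : T ⟶ G ⊗ P) :
    f ≫ M F a = lift ((f ≫ fst G P) * ((f ≫ snd G P) ≫ a) * ((f ≫ fst G P) ≫ F)⁻¹) (f ≫ snd G P) := by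
  conv_lhs => rw [show f = lift (f ≫ fst G P) (f ≫ snd G P) by simp]
  rw [M, comp_lift, comp_N, lift_snd]

/-- The spectrum of an extension field. -/
abbrev spt (K : Type u) [Field K] [Algebra k K] : Over (Spec (CommRingCat.of k)) :=
  Over.mk (Spec.map (CommRingCat.ofHom (algebraMap k K)))

variable [IsAffine G.left] {F : G ⟶ G} (hF : ∀ s : Γ(G.left, ⊤), F.left.appTop s = s ^ Nat.card k)
  (K : Type u) [Field K] [Algebra k K] (a : spt (k := k) K ⟶ G)

include hF

variable [LocallyOfFiniteType G.hom]

theorem exists_stabilizer :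
    ∃ (St : Over (Spec (CommRingCat.of k))) (u : St ⟶ G) (tS : St ⟶ spt (k := k) K), IsFinite tS.left ∧
      ∀ (T : Over (Spec (CommRingCat.of k))) (g : T ⟶ G) (t : T ⟶ spt (k := k) K),
        g * (t ≫ a) * (g ≫ F)⁻¹ = t ≫ a → ∃ l : T ⟶ St, l ≫ u = g ∧ l ≫ tS = t := by
  classical
  let P := spt (k := k) K
  haveI : IsAffine P.left := inferInstanceAs (IsAffine (Spec (CommRingCat.of K)))
  let GP := G ⊗ P
  haveI : IsAffine GP.left := inferInstanceAs (IsAffine (pullback G.hom P.hom))
  haveI : LocallyOfFiniteType (snd G P).left := inferInstanceAs (LocallyOfFiniteType (pullback.snd G.hom P.hom))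
  haveI : IsSeparated (snd G P).left := inferInstanceAs (IsSeparated (pullback.snd G.hom P.hom))
  let σ : P ⟶ GP := lift a (𝟙 P)
  haveI : IsClosedImmersion σ.left := by
    haveI : IsClosedImmersion (σ.left ≫ (snd G P).left) := by
      rw [← Over.comp_left, lift_snd]
      exact inferInstanceAs (IsClosedImmersion (𝟙 P.left))
    exact IsClosedImmersion.of_comp σ.left (snd G P).left
  let j := pullback.fst (M F a).left σ.left
  let St : Over (Spec (CommRingCat.of k)) := Over.mk (j ≫ GP.hom)
  let i : St ⟶ GP := Over.homMk j rfl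
  haveI hi : IsClosedImmersion i.left := inferInstanceAs (IsClosedImmersion (pullback.fst (M F a).left σ.left))
  haveI : IsAffine St.left := isAffine_of_isAffineHom i.left
  let u := i ≫ fst G P
  let tS := i ≫ snd G P
  have hsol : u * (tS ≫ a) * (u ≫ F)⁻¹ = tS ≫ a := by
    let r : St ⟶ P := Over.homMk (pullback.snd (M F a).left σ.left) (by
      show pullback.snd (M F a).left σ.left ≫ P.hom = pullback.fst (M F a).left σ.left ≫ GP.hom
      rw [← Over.w σ, ← pullback.condition_assoc, Over.w (M F a)])
    have h : i ≫ M F a = r ≫ σ := Over.OverMorphism.ext pullback.condition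
    rw [comp_M] at h
    simp only [σ, comp_lift, Category.comp_id] at h
    have h1 := congrArg (· ≫ fst G P) h
    have h2 := congrArg (· ≫ snd G P) h
    simp only [lift_fst, lift_snd] at h1 h2
    rw [show tS = r from h2] at *
    simpa [u, h2] using h1
  refine ⟨St, u, tS, ?_, fun T g t h => ?_⟩
  · -- finiteness
    let φ := (Scheme.ΓSpecIso (CommRingCat.of K)).inv ≫ tS.left.appTop
    letI : Algebra K Γ(St.left, ⊤) := φ.hom.toAlgebra
    haveI : LocallyOfFiniteType tS.left := by
      show LocallyOfFiniteType (i ≫ snd G P).left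
      rw [Over.comp_left]
      infer_instance
    haveI : Algebra.FiniteType K Γ(St.left, ⊤) := by
      have h1 : tS.left.appTop.hom.FiniteType := by
        rw [Scheme.Hom.appTop, Scheme.Hom.app_eq_appLE]
        exact tS.left.finiteType_appLE (isAffineOpen_top _) (isAffineOpen_top _) _
      exact h1.comp (RingHom.FiniteType.of_surjective _
        (ConcreteCategory.bijective_of_isIso (Scheme.ΓSpecIso (CommRingCat.of K)).inv).2)
    let q := Nat.card k
    let S : Set Γ(St.left, ⊤) := Set.range u.left.appTop.hom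
    let Pw := Algebra.adjoin K (Set.range fun b : Γ(St.left, ⊤) => b ^ q)
    have hconst : ∀ c, tS.left.appTop.hom c ∈ (⊥ : Subalgebra K Γ(St.left, ⊤)) := fun c => by
      refine Algebra.mem_bot.2 ⟨(Scheme.ΓSpecIso (CommRingCat.of K)).hom.hom c, ?_⟩
      show tS.left.appTop.hom ((Scheme.ΓSpecIso (CommRingCat.of K)).inv.hom _) = _
      rw [Iso.hom_inv_id_apply]
    have hgen : Algebra.adjoin K S = ⊤ := by
      refine eq_top_iff.2 fun b _ => ?_
      obtain ⟨z, rfl⟩ := (i.left.app_surjective ⊤ (isAffineOpen_top _) :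
        Function.Surjective i.left.appTop) b
      have h := eq_top_of_range G P ((Algebra.adjoin K S).toSubring.comap i.left.appTop.hom)
        (fun x => Algebra.subset_adjoin ⟨x, by
          show (i ≫ fst G P).left.appTop.hom x = _
          rw [Over.comp_left, Scheme.Hom.comp_appTop]; rfl⟩)
        (fun y => by
          have := bot_le (a := Algebra.adjoin K S) (hconst y)
          show i.left.appTop.hom ((snd G P).left.appTop.hom y) ∈ Algebra.adjoin K S
          rw [show tS.left = i.left ≫ (snd G P).left from rfl, Scheme.Hom.comp_appTop] at this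
          exact this)
      exact (h.symm ▸ Subring.mem_top z : z ∈ (Algebra.adjoin K S).toSubring.comap i.left.appTop.hom)
    have hq : (q : K) = 0 := by
      letI := Fintype.ofFinite k
      obtain ⟨p, -, -, -, hc⟩ := FiniteField.card' k
      rw [← map_natCast (algebraMap k K), show q = Fintype.card k from Nat.card_eq_fintype_card,
        Nat.cast_card_eq_zero, map_zero]
    have hu : ∀ s ∈ S, s ∈ Pw := by
      rintro _ ⟨s, rfl⟩
      let m : GP ⟶ G := (snd G P ≫ a) * fst G P * (snd G P ≫ a)⁻¹
      have hum : u = lift (u ≫ F) tS ≫ m := by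
        simp only [m, MonObj.comp_mul, GrpObj.comp_inv, lift_fst, lift_snd_assoc]
        rw [eq_mul_inv_iff_mul_eq]
        exact mul_inv_eq_iff_eq_mul.1 hsol
      have h := eq_top_of_range G P (Pw.toSubring.comap (lift (u ≫ F) tS).left.appTop.hom)
        (fun x => by
          refine Algebra.subset_adjoin ⟨u.left.appTop.hom x, ?_⟩
          show _ = (lift (u ≫ F) tS).left.appTop.hom ((fst G P).left.appTop.hom x)
          rw [← CommRingCat.comp_apply, ← Scheme.Hom.comp_appTop, ← Over.comp_left, lift_fst]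
          show (u.left.appTop.hom x) ^ q = u.left.appTop.hom (F.left.appTop.hom x)
          rw [← map_pow]
          exact congrArg _ (hF x).symm)
        (fun y => by
          show (lift (u ≫ F) tS).left.appTop.hom ((snd G P).left.appTop.hom y) ∈ Pw
          rw [← CommRingCat.comp_apply, ← Scheme.Hom.comp_appTop, ← Over.comp_left, lift_snd]
          exact bot_le (a := Pw) (hconst y))
      have : m.left.appTop.hom s ∈ Pw.toSubring.comap (lift (u ≫ F) tS).left.appTop.hom :=
        h.symm ▸ Subring.mem_top _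
      rw [hum, Over.comp_left, Scheme.Hom.comp_appTop]
      exact this
    have hfin := finite_of_mem_adjoin_pow q hq S hgen hu
    refine (HasAffineProperty.iff_of_isAffine (P := @IsFinite)).2 ⟨inferInstance, ?_⟩
    exact RingHom.Finite.of_comp_finite (f := (Scheme.ΓSpecIso (CommRingCat.of K)).inv.hom) hfin
  · have hc : lift g t ≫ M F a = t ≫ σ := by
      rw [comp_M]
      simp [σ, comp_lift, h]
      exact congrArg (lift (t ≫ a)) (Category.comp_id t).symm
    refine ⟨Over.homMk (pullback.lift (lift g t).left t.left (congrArg (·.left) hc)) ?_, ?_, ?_⟩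
    · show _ ≫ pullback.fst _ _ ≫ GP.hom = _
      rw [pullback.lift_fst_assoc]
      exact Over.w (lift g t)
    · ext1
      show pullback.lift _ _ _ ≫ pullback.fst _ _ ≫ (fst G P).left = g.left
      rw [pullback.lift_fst_assoc, ← Over.comp_left, lift_fst]
    · ext1
      show pullback.lift _ _ _ ≫ pullback.fst _ _ ≫ (snd G P).left = t.left
      rw [pullback.lift_fst_assoc, ← Over.comp_left, lift_snd]

theorem finite_fibre (y : (G ⊗ spt (k := k) K).left) :
    ((M F a).left.base ⁻¹' {y}).Finite := by
  classical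
  haveI := isMonHom_frobenius hF
  let P := spt (k := k) K
  obtain ⟨St, u, tS, hfin, hlift⟩ := exists_stabilizer hF K a
  let π : G ⊗ St ⟶ G ⊗ P := G ◁ tS
  let ψ : G ⊗ St ⟶ G ⊗ P := lift (fst G St * (snd G St ≫ u)⁻¹) (snd G St ≫ tS)
  haveI : IsFinite π.left := by
    refine MorphismProperty.of_isPullback (P := @IsFinite) (f' := (snd G St).left) (g := tS.left) (f := (snd G P).left)
      (IsPullback.flip ?_) hfin
    refine IsPullback.of_right (h₁₂ := (fst G P).left) (h₂₂ := P.hom) ?_ ?_ (IsPullback.of_hasPullback G.hom P.hom)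
    · rw [show π.left ≫ (fst G P).left = (fst G St).left by rw [← Over.comp_left, whiskerLeft_fst], Over.w tS]
      exact IsPullback.of_hasPullback G.hom St.hom
    · rw [← Over.comp_left, ← Over.comp_left, whiskerLeft_snd]
  rcases Set.eq_empty_or_nonempty ((M F a).left.base ⁻¹' {y}) with h | ⟨x, hx⟩
  · rw [h]; exact Set.finite_empty
  refine ((π.left.finite_preimage_singleton x).image ψ.left.base).subset fun x' hx' => ?_
  obtain ⟨z, hz, hz'⟩ := Scheme.Pullback.exists_preimage_pullback x x' (hx.trans hx'.symm)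
  let W : Over (Spec (CommRingCat.of k)) := Over.mk (pullback.fst (M F a).left (M F a).left ≫ (G ⊗ P).hom)
  let p : W ⟶ G ⊗ P := Over.homMk (pullback.fst _ _) rfl
  let p' : W ⟶ G ⊗ P := Over.homMk (pullback.snd _ _) (by
    show pullback.snd (M F a).left (M F a).left ≫ (G ⊗ P).hom = pullback.fst _ _ ≫ (G ⊗ P).hom
    rw [← Over.w (M F a), ← Category.assoc, ← pullback.condition, Category.assoc, Over.w])
  have hpp : p ≫ M F a = p' ≫ M F a := Over.OverMorphism.ext pullback.condition
  rw [comp_M, comp_M] at hpp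
  have h1 := congrArg (· ≫ fst G P) hpp
  have h2 := congrArg (· ≫ snd G P) hpp
  simp only [lift_fst, lift_snd] at h1 h2
  set g := p ≫ fst G P
  set h := p' ≫ fst G P
  set t := p ≫ snd G P
  rw [← h2] at h1
  obtain ⟨l, hlu, hlt⟩ := hlift W (h⁻¹ * g) t (by
    rw [MonObj.mul_comp, GrpObj.inv_comp, _root_.mul_inv_rev, _root_.inv_inv]
    calc h⁻¹ * g * (t ≫ a) * ((g ≫ F)⁻¹ * (h ≫ F))
        = h⁻¹ * (g * (t ≫ a) * (g ≫ F)⁻¹) * (h ≫ F) := by simp only [_root_.mul_assoc]
      _ = t ≫ a := by rw [h1]; simp [_root_.mul_assoc])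
  have e1 : lift g l ≫ π = p := by
    rw [show p = lift g t by simp [g, t]]
    simp [π, hlt]
  have e2 : lift g l ≫ ψ = p' := by
    rw [show p' = lift h (p' ≫ snd G P) by simp [h], ← h2]
    simp only [ψ, comp_lift, MonObj.comp_mul, GrpObj.comp_inv, lift_fst, lift_snd_assoc, hlu, hlt,
      _root_.mul_inv_rev, _root_.inv_inv, mul_inv_cancel_left]
  refine ⟨(lift g l).left.base z, ?_, ?_⟩
  · show π.left.base _ = x
    rw [← Scheme.Hom.comp_apply, ← Over.comp_left, e1]
    exact hz
  · rw [← Scheme.Hom.comp_apply, ← Over.comp_left, e2]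
    exact hz'

variable [Smooth G.hom] [ConnectedSpace G.left]

theorem isIntegral_prod : IsIntegral (G ⊗ spt (k := k) K).left := by
  haveI := Neutral.geometricallyConnected_of_point G.hom (η[G] : 𝟙_ _ ⟶ G).left (Over.w _)
  haveI := Rigidity.geometricallyIntegral_of_smooth G
  haveI : IsLocallyNoetherian (spt (k := k) K).left := inferInstanceAs (IsLocallyNoetherian (Spec (CommRingCat.of K)))
  haveI : IsIntegral (spt (k := k) K).left := inferInstanceAs (IsIntegral (Spec (CommRingCat.of K)))
  haveI : Subsingleton ↥(spt (k := k) K).left := inferInstanceAs (Subsingleton (PrimeSpectrum K))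
  show IsIntegral (pullback G.hom (spt (k := k) K).hom)
  haveI : IsLocallyNoetherian (pullback G.hom (spt (k := k) K).hom) :=
    LocallyOfFiniteType.isLocallyNoetherian (pullback.snd G.hom (spt (k := k) K).hom)
  exact GeometricallyIntegral.isIntegral_of_subsingleton (pullback.snd G.hom (spt (k := k) K).hom)

theorem map_genericPoint :
    letI := isIntegral_prod hF K
    (M F a).left.base (genericPoint (G ⊗ spt (k := k) K).left) = genericPoint (G ⊗ spt (k := k) K).left := by
  haveI := isIntegral_prod hF K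
  let P := spt (k := k) K
  let X := (G ⊗ P).left
  haveI : IsAffine P.left := inferInstanceAs (IsAffine (Spec (CommRingCat.of K)))
  haveI : IsAffine X := inferInstanceAs (IsAffine (pullback G.hom P.hom))
  let Φ := (M F a).left
  have hsnd : Φ ≫ (snd G P).left = (snd G P).left := by rw [← Over.comp_left, M, lift_snd]
  letI : Algebra K Γ(X, ⊤) := ((Scheme.ΓSpecIso (CommRingCat.of K)).inv ≫ (snd G P).left.appTop).hom.toAlgebra
  haveI : Algebra.FiniteType K Γ(X, ⊤) := by
    haveI : LocallyOfFiniteType (snd G P).left := inferInstanceAs (LocallyOfFiniteType (pullback.snd G.hom P.hom))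
    have h1 : (snd G P).left.appTop.hom.FiniteType := by
      rw [Scheme.Hom.appTop, Scheme.Hom.app_eq_appLE]
      exact (snd G P).left.finiteType_appLE (isAffineOpen_top _) (isAffineOpen_top _) _
    exact h1.comp (RingHom.FiniteType.of_surjective _
      (ConcreteCategory.bijective_of_isIso (Scheme.ΓSpecIso (CommRingCat.of K)).inv).2)
  have hcomm : ∀ c : K, Φ.appTop.hom (algebraMap K Γ(X, ⊤) c) = algebraMap K Γ(X, ⊤) c := fun c => by
    show ((snd G P).left.appTop ≫ Φ.appTop).hom ((Scheme.ΓSpecIso (CommRingCat.of K)).inv.hom c) = _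
    rw [← Scheme.Hom.comp_appTop, hsnd]
    rfl
  let φ : Γ(X, ⊤) →ₐ[K] Γ(X, ⊤) := { Φ.appTop.hom with commutes' := hcomm }
  have hspec : Φ = X.isoSpec.hom ≫ Spec.map Φ.appTop ≫ X.isoSpec.inv := by
    rw [← Category.assoc, Iso.eq_comp_inv]
    exact (Scheme.isoSpec_hom_naturality Φ).symm
  have hinj : Function.Injective φ := injective_of_finite_fibres φ fun Q => by
    refine ((finite_fibre hF K a (X.isoSpec.inv.base Q)).image X.isoSpec.hom.base).subset fun x hx => ?_
    refine ⟨X.isoSpec.inv.base x, ?_, ?_⟩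
    · show Φ.base (X.isoSpec.inv.base x) = X.isoSpec.inv.base Q
      rw [← Scheme.Hom.comp_apply, hspec, Iso.inv_hom_id_assoc, Scheme.Hom.comp_apply]
      exact congrArg X.isoSpec.inv.base hx
    · rw [← Scheme.Hom.comp_apply, Iso.inv_hom_id]
      rfl
  have hdom : DenseRange Φ.base := by
    have h1 : DenseRange (Spec.map Φ.appTop).base := by
      refine (PrimeSpectrum.denseRange_comap_iff_ker_le_nilRadical _).2 ?_
      rw [(RingHom.injective_iff_ker_eq_bot Φ.appTop.hom).1 hinj]
      exact bot_le
    rw [hspec, Scheme.Hom.comp_base, Scheme.Hom.comp_base, TopCat.coe_comp, TopCat.coe_comp]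
    refine (DenseRange.comp ?_ h1 X.isoSpec.inv.continuous).comp X.isoSpec.hom.surjective.denseRange ?_
    · exact X.isoSpec.inv.surjective.denseRange
    · exact X.isoSpec.inv.continuous.comp (Spec.map Φ.appTop).continuous
  have h2 := (genericPoint_spec X).image Φ.continuous
  rw [Set.image_univ, hdom.closure_range] at h2
  exact h2.eq (genericPoint_spec X)

omit a in
/-- **Lang's theorem.** -/
theorem surjective_lang : Surjective ((𝟙 G * F⁻¹ : G ⟶ G).left) := by
  classical
  haveI := isMonHom_frobenius hF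
  constructor
  intro y
  let κ := G.left.residueField y
  let c : G.left ⟶ Spec (CommRingCat.of k) := G.hom
  letI : Algebra k κ := (Spec.preimage (G.left.fromSpecResidueField y ≫ c)).hom.toAlgebra
  let a : spt (k := k) κ ⟶ G := Over.homMk (G.left.fromSpecResidueField y) (by
    show _ = Spec.map (Spec.preimage (G.left.fromSpecResidueField y ≫ c))
    rw [Spec.map_preimage])
  let P := spt (k := k) κ
  haveI := isIntegral_prod hF κ
  let one : P ⟶ G := 1
  obtain ⟨z, -, -⟩ := Scheme.Pullback.exists_preimage_pullback (genericPoint (G ⊗ P).left) (genericPoint (G ⊗ P).left)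
    ((map_genericPoint hF κ one).trans (map_genericPoint hF κ a).symm)
  let W : Over (Spec (CommRingCat.of k)) := Over.mk (pullback.fst (M F one).left (M F a).left ≫ (G ⊗ P).hom)
  let p : W ⟶ G ⊗ P := Over.homMk (pullback.fst _ _) rfl
  let p' : W ⟶ G ⊗ P := Over.homMk (pullback.snd _ _) (by
    show pullback.snd (M F one).left (M F a).left ≫ (G ⊗ P).hom = pullback.fst _ _ ≫ (G ⊗ P).hom
    conv_lhs => rw [← Over.w (M F a), ← Category.assoc, ← pullback.condition, Category.assoc, Over.w])
  have hpp : p ≫ M F one = p' ≫ M F a := Over.OverMorphism.ext pullback.condition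
  rw [comp_M, comp_M] at hpp
  have h1 := congrArg (· ≫ fst G P) hpp
  have h2 := congrArg (· ≫ snd G P) hpp
  simp only [lift_fst, lift_snd] at h1 h2
  set g := p ≫ fst G P
  set h := p' ≫ fst G P
  set t := p ≫ snd G P
  rw [← h2] at h1
  simp only [one, MonObj.comp_one, _root_.mul_one] at h1
  have hsol : (h⁻¹ * g) ≫ (𝟙 G * F⁻¹ : G ⟶ G) = t ≫ a := by
    rw [MonObj.comp_mul, Category.comp_id, GrpObj.comp_inv, MonObj.mul_comp, GrpObj.inv_comp, _root_.mul_inv_rev,
      _root_.inv_inv]
    calc h⁻¹ * g * ((g ≫ F)⁻¹ * (h ≫ F))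
        = h⁻¹ * (g * (g ≫ F)⁻¹) * (h ≫ F) := by simp only [_root_.mul_assoc]
      _ = t ≫ a := by rw [h1]; simp [_root_.mul_assoc]
  refine ⟨(h⁻¹ * g).left.base z, ?_⟩
  rw [← Scheme.Hom.comp_apply, ← Over.comp_left, hsol]
  show (G.left.fromSpecResidueField y).base (t.left.base z) = y
  exact Scheme.fromSpecResidueField_apply _ _

end GrothLib.LangMap13
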