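import Groth.Agent.Lib.Dim.Ring
import Mathlib.RingTheory.QuasiFinite.Basic
import Mathlib.RingTheory.KrullDimension.NonZeroDivisors
import Mathlib.RingTheory.Unramified.Finite
import Mathlib.RingTheory.Kaehler.Basic

/-!
# Algebra behind the surjectivity of the Lang map

* an endomorphism with finite fibres of a finite type domain over a field is injective;
* an algebra generated by elements of the subalgebra of `q`-th powers, `q = 0` in the field, is finite.
-/

universe u

open scoped nonZeroDivisors

namespace GrothLib.LangMap13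

theorem injective_of_finite_fibres {K A : Type u} [Field K] [CommRing A] [IsDomain A] [Algebra K A]
    [Algebra.FiniteType K A] (φ : A →ₐ[K] A)
    (hφ : ∀ P : PrimeSpectrum A, (PrimeSpectrum.comap φ.toRingHom ⁻¹' {P}).Finite) :
    Function.Injective φ := by
  set p := RingHom.ker φ.toRingHom
  let R := A ⧸ p
  haveI : p.IsPrime := RingHom.ker_isPrime _
  letI : Algebra R A := (Ideal.Quotient.lift p φ.toRingHom fun _ h => h).toAlgebra
  have hinj : Function.Injective (algebraMap R A) := RingHom.lift_injective_of_ker_le_ideal _ _ le_rfl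
  haveI : FaithfulSMul R A := (faithfulSMul_iff_algebraMap_injective _ _).2 hinj
  haveI : IsScalarTower K R A := IsScalarTower.of_algebraMap_eq fun x => (φ.commutes x).symm
  haveI : Algebra.FiniteType R A := Algebra.FiniteType.of_restrictScalars_finiteType K R A
  haveI : Algebra.QuasiFinite R A := Algebra.QuasiFinite.iff_finite_comap_preimage_singleton.2 fun P => by
    refine (hφ (PrimeSpectrum.comap (Ideal.Quotient.mk p) P)).subset fun Q hQ => ?_
    rw [Set.mem_preimage, Set.mem_singleton_iff] at hQ ⊢
    rw [← hQ]
    rfl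
  let L := FractionRing A
  let F := FractionRing R
  haveI : Algebra.QuasiFinite R L := Algebra.QuasiFinite.of_isLocalization (S := A) A⁰
  have hinjL : Function.Injective (algebraMap R L) := by
    rw [IsScalarTower.algebraMap_eq R A L]
    exact (IsFractionRing.injective A L).comp hinj
  haveI : FaithfulSMul R L := (faithfulSMul_iff_algebraMap_injective _ _).2 hinjL
  letI : Algebra F L := FractionRing.liftAlgebra R L
  haveI : Algebra.QuasiFinite F L := Algebra.QuasiFinite.of_restrictScalars R F L
  haveI : Module.Finite F L := Module.Finite.of_quasiFinite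
  haveI : Algebra.IsAlgebraic R A := ⟨fun a => by
    have h1 : IsAlgebraic F (algebraMap A L a) := (IsIntegral.of_finite F _).isAlgebraic
    have h2 : IsAlgebraic R (algebraMap A L a) := (IsFractionRing.isAlgebraic_iff R F L).2 h1
    exact (isAlgebraic_algebraMap_iff (IsFractionRing.injective A L)).1 h2⟩
  obtain ⟨n, hn, hn'⟩ := GrothLib.Dim.exists_nat_trdeg_eq_and_ringKrullDim_eq K A
  obtain ⟨m, hm, hm'⟩ := GrothLib.Dim.exists_nat_trdeg_eq_and_ringKrullDim_eq K R
  have hnm : n = m := by
    have h := lift_trdeg_add_eq K R A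
    rw [show Algebra.trdeg R A = 0 from trdeg_eq_zero, hn, hm] at h
    simpa using h.symm
  rw [show Function.Injective φ ↔ p = ⊥ from (RingHom.injective_iff_ker_eq_bot φ.toRingHom)]
  by_contra hp
  obtain ⟨r, hr, hr0⟩ := Submodule.exists_mem_ne_zero_of_ne_bot hp
  have h1 := ringKrullDim_quotient_succ_le_of_nonZeroDivisor (mem_nonZeroDivisors_of_ne_zero hr0)
  have h2 := ringKrullDim_le_of_surjective (Ideal.Quotient.factor ((Ideal.span_singleton_le_iff_mem p).2 hr))
    (Ideal.Quotient.factor_surjective _)
  rw [show ringKrullDim (A ⧸ p) = m from hm'] at h2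
  replace h1 := le_trans (add_le_add_left h2 1) h1
  rw [hn', hnm] at h1
  norm_cast at h1
  omega

theorem finite_of_mem_adjoin_pow {K B : Type u} [Field K] [CommRing B] [Algebra K B] [Algebra.FiniteType K B]
    (q : ℕ) (hq : (q : K) = 0) (S : Set B) (hS : Algebra.adjoin K S = ⊤)
    (h : ∀ s ∈ S, s ∈ Algebra.adjoin K (Set.range fun b : B => b ^ q)) : Module.Finite K B := by
  have hqB : (q : B) = 0 := by rw [← map_natCast (algebraMap K B), hq, map_zero]
  have hD : ∀ b : B, KaehlerDifferential.D K B b = 0 := by
    intro b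
    have hpow : Set.EqOn (KaehlerDifferential.D K B) (0 : Derivation K B (Ω[B⁄K]))
        (Set.range fun b : B => b ^ q) := by
      rintro _ ⟨c, rfl⟩
      rw [Derivation.leibniz_pow, ← Nat.cast_smul_eq_nsmul B, hqB, zero_smul]
      rfl
    have hSeq : Set.EqOn (KaehlerDifferential.D K B) (0 : Derivation K B (Ω[B⁄K])) S :=
      fun s hs => Derivation.eqOn_adjoin hpow (h s hs)
    exact Derivation.eqOn_adjoin hSeq (hS ▸ Algebra.mem_top : b ∈ Algebra.adjoin K S)
  haveI : Subsingleton Ω[B⁄K] := by
    refine ⟨fun x y => ?_⟩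
    have hx : ∀ x : Ω[B⁄K], x ∈ Submodule.span B (Set.range (KaehlerDifferential.D K B)) := fun x => by
      rw [KaehlerDifferential.span_range_derivation]; trivial
    have h0 : Submodule.span B (Set.range (KaehlerDifferential.D K B)) = ⊥ :=
      Submodule.span_eq_bot.2 (by rintro _ ⟨b, rfl⟩; exact hD b)
    simp only [h0, Submodule.mem_bot] at hx
    rw [hx x, hx y]
  haveI : Algebra.FormallyUnramified K B := ⟨inferInstance⟩
  exact Algebra.FormallyUnramified.finite_of_free K B

end GrothLib.LangMap13
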